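import Cfsg.Agent.H371.P4.Tor
import Cfsg.Agent.H371.Core.Fam

/-!
# S3591: `E₈(v)` (helper371)
-/

set_option autoImplicit false
set_option linter.unusedSectionVars false

universe u

namespace Cfsg.Agent.H371.P4

open CoxeterSystem Subgroup Cfsg Cfsg.Lie Cfsg.Lie.ChevalleyDatum
open Cfsg.Agent.H378 Cfsg.Agent.H378.ExcAdj
open Cfsg.Agent.H379.P4 Cfsg.Agent.H371.CycEval
open Cfsg.Agent.H371.Core (Tor tor_E8_15 tor_E8_20 tor_E8_24 tor_E8_30)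

variable {p q : ℕ}

theorem pow_facts {v : ℤ} (hv : 2 ≤ v) : 0 ≤ v ∧ v * 2 ≤ v ^ 2 ∧ v ^ 2 * 2 ≤ v ^ 3 ∧ v ^ 3 * 2 ≤ v ^ 4 ∧ v ^ 4 * 2 ≤ v ^ 5 ∧
    v ^ 5 * 2 ≤ v ^ 6 ∧ v ^ 6 * 2 ≤ v ^ 7 ∧ v ^ 7 * 2 ≤ v ^ 8 := by
  have h0 : (0 : ℤ) ≤ v := by linarith
  have h1 : ∀ k : ℕ, v ^ k * 2 ≤ v ^ (k + 1) := by
    intro k
    rw [pow_succ]
    exact mul_le_mul_of_nonneg_left hv (pow_nonneg h0 k)
  refine ⟨h0, ?_, h1 2, h1 3, h1 4, h1 5, h1 6, h1 7⟩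
  have := h1 1
  rwa [pow_one] at this

theorem bounds {v x : ℤ} (hv : 2 ≤ v) (hx : x = v ^ 8 - v ^ 7 + v ^ 5 - v ^ 4 + v ^ 3 - v + 1 ∨
    x = v ^ 8 - v ^ 6 + v ^ 4 - v ^ 2 + 1 ∨ x = v ^ 8 - v ^ 4 + 1 ∨
    x = v ^ 8 + v ^ 7 - v ^ 5 - v ^ 4 - v ^ 3 + v + 1) : v ^ 8 ≤ 2 * x ∧ x ≤ 2 * v ^ 8 := by
  obtain ⟨h0, h1, h2, h3, h4, h5, h6, h7⟩ := pow_facts hv
  rcases hx with rfl | rfl | rfl | rfl <;> constructor <;> linarith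

theorem num_e8 {y a b : ℤ} (hy : 256 ≤ y) (ha : y ≤ 2 * a) (hb : y ≤ 2 * b) :
    2 * (2 * y) ^ 3 ≤ (a * b) ^ 2 := by
  have h1 : y * y ≤ 4 * (a * b) := by
    calc y * y ≤ (2 * a) * (2 * b) := mul_le_mul ha hb (by linarith) (by linarith)
      _ = _ := by ring
  have h2 : (y * y) ^ 2 ≤ (4 * (a * b)) ^ 2 := pow_le_pow_left₀ (by positivity) h1 2
  have h3 : 256 * y ^ 3 ≤ (y * y) ^ 2 := by
    have h3 : 0 ≤ y ^ 3 := by positivity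
    have h4 : (y * y) ^ 2 = y ^ 3 * y := by ring
    rw [h4, mul_comm]
    exact mul_le_mul_of_nonneg_left hy h3
  have h5 : (4 * (a * b)) ^ 2 = 16 * (a * b) ^ 2 := by ring
  have h6 : 2 * (2 * y) ^ 3 = 16 * y ^ 3 := by ring
  rw [h6]
  linarith

theorem e8 {p q : ℕ} (hP : Par p q) {F : Type u} [Field F] [Fintype F] (h : Hyp p q ↥(Cfsg.Lie.chevE8.group F)) :
    False := by
  obtain ⟨v, hv⟩ : ∃ v, Nat.card F = v := ⟨_, rfl⟩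
  have hv2 : 2 ≤ v := by rw [← hv]; exact Finite.one_lt_card
  have hvz : (2 : ℤ) ≤ v := by exact_mod_cast hv2
  have hod : ∀ r : ℕ, r.Prime → r ∣ R q → od v r = 15 ∨ od v r = 20 ∨ od v r = 24 ∨ od v r = 30 := by
    intro r hr hrR
    rw [← hv]
    rcases adj_E8 F hr (hrR.trans h.dvd_card) with h1 | h1 | h1
    · exact absurd (h1 ▸ hrR) hP.two
    · exact absurd h1 (not_adj_two hP h hr hrR)
    · exact h1
  have T15 := tor_E8_15 F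
  have T20 := tor_E8_20 F
  have T24 := tor_E8_24 F
  have T30 := tor_E8_30 F
  obtain ⟨M15, hM15⟩ : ∃ M, (ev 15 (Nat.card F : ℕ)).natAbs = M := ⟨_, rfl⟩
  obtain ⟨M20, hM20⟩ : ∃ M, (ev 20 (Nat.card F : ℕ)).natAbs = M := ⟨_, rfl⟩
  obtain ⟨M24, hM24⟩ : ∃ M, (ev 24 (Nat.card F : ℕ)).natAbs = M := ⟨_, rfl⟩
  obtain ⟨M30, hM30⟩ : ∃ M, (ev 30 (Nat.card F : ℕ)).natAbs = M := ⟨_, rfl⟩
  have h15 : (M15 : ℤ) = (v : ℤ) ^ 8 - v ^ 7 + v ^ 5 - v ^ 4 + v ^ 3 - v + 1 := by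
    rw [← hM15, ← ev15, Int.natCast_natAbs, abs_of_pos (ev_pos (by norm_num) _), hv]
  have h20 : (M20 : ℤ) = (v : ℤ) ^ 8 - v ^ 6 + v ^ 4 - v ^ 2 + 1 := by
    rw [← hM20, ← ev20, Int.natCast_natAbs, abs_of_pos (ev_pos (by norm_num) _), hv]
  have h24 : (M24 : ℤ) = (v : ℤ) ^ 8 - v ^ 4 + 1 := by
    rw [← hM24, ← ev24, Int.natCast_natAbs, abs_of_pos (ev_pos (by norm_num) _), hv]
  have h30 : (M30 : ℤ) = (v : ℤ) ^ 8 + v ^ 7 - v ^ 5 - v ^ 4 - v ^ 3 + v + 1 := by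
    rw [← hM30, ← ev30, Int.natCast_natAbs, abs_of_pos (ev_pos (by norm_num) _), hv]
  rw [hM15, hv] at T15
  rw [hM20, hv] at T20
  rw [hM24, hv] at T24
  rw [hM30, hv] at T30
  have hy : (256 : ℤ) ≤ (v : ℤ) ^ 8 := by
    calc (256 : ℤ) = 2 ^ 8 := by norm_num
      _ ≤ (v : ℤ) ^ 8 := pow_le_pow_left₀ (by norm_num) hvz 8
  have d15 : M15 ∣ v ^ 15 - 1 := dvd_pow_sub_one (by omega)
    (c := ((v : ℤ) ^ 5 - 1) * ((v : ℤ) ^ 2 + v + 1)) (by rw [h15]; ring)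
  have d20 : M20 ∣ v ^ 20 - 1 := dvd_pow_sub_one (by omega)
    (c := ((v : ℤ) ^ 2 + 1) * ((v : ℤ) ^ 10 - 1)) (by rw [h20]; ring)
  have d24 : M24 ∣ v ^ 24 - 1 := dvd_pow_sub_one (by omega)
    (c := ((v : ℤ) ^ 4 + 1) * ((v : ℤ) ^ 12 - 1)) (by rw [h24]; ring)
  have d30 : M30 ∣ v ^ 30 - 1 := dvd_pow_sub_one (by omega)
    (c := ((v : ℤ) ^ 7 - v ^ 6 + v ^ 5 + v ^ 2 - v + 1) * ((v : ℤ) ^ 15 - 1)) (by rw [h30]; ring)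
  have c1524 : Nat.Coprime M15 M24 := cop_int (x := 1 * (v : ℤ) ^ 1 + (-1) * (v : ℤ) ^ 5 + (-1) * (v : ℤ) ^ 7)
    (y := 1 + (-1) * (v : ℤ) ^ 1 + 1 * (v : ℤ) ^ 2 + 1 * (v : ℤ) ^ 5 + (-1) * (v : ℤ) ^ 6 + 1 * (v : ℤ) ^ 7)
    (by rw [h15, h24]; ring)
  have c1520 : Nat.Coprime M15 M20 := cop_int (x := (-1) * (v : ℤ) ^ 5 + (-1) * (v : ℤ) ^ 6 + (-1) * (v : ℤ) ^ 7)
    (y := 1 + 1 * (v : ℤ) ^ 2 + 1 * (v : ℤ) ^ 5 + 1 * (v : ℤ) ^ 7) (by rw [h15, h20]; ring)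
  have c2024 : Nat.Coprime M20 M24 := cop_int
    (x := 2 + 1 * (v : ℤ) ^ 2 + (-2) * (v : ℤ) ^ 4 + (-2) * (v : ℤ) ^ 6)
    (y := (-1) + 1 * (v : ℤ) ^ 2 + 2 * (v : ℤ) ^ 6) (by rw [h20, h24]; ring)
  have B15 := bounds hvz (Or.inl h15)
  have B20 := bounds hvz (Or.inr (Or.inl h20))
  have B24 := bounds hvz (Or.inr (Or.inr (Or.inl h24)))
  have B30 := bounds hvz (Or.inr (Or.inr (Or.inr h30)))
  obtain ⟨r, hr, hr2, hrR, hrS⟩ := h.exists_prime hP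
  -- all the primes have the same class
  have key : ∀ {e N M M' k k' : ℕ} (e₀ : ℕ), od v r = e → Tor ↥(chevE8.group F) v e N →
      N ∣ v ^ e - 1 → (∀ o, (o = 15 ∨ o = 20 ∨ o = 24 ∨ o = 30) → o ∣ e → e₀ ∣ o) →
      (v : ℤ) ^ 8 ≤ 2 * N ∧ (N : ℤ) ≤ 2 * (v : ℤ) ^ 8 →
      (∃ g : ↥(chevE8.group F), orderOf g = M) → (∃ g : ↥(chevE8.group F), orderOf g = M') →
      M ∣ v ^ k - 1 → M' ∣ v ^ k' - 1 → ¬ e₀ ∣ k → ¬ e₀ ∣ k' → Nat.Coprime M M' →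
      (v : ℤ) ^ 8 ≤ 2 * M ∧ (M : ℤ) ≤ 2 * (v : ℤ) ^ 8 → (v : ℤ) ^ 8 ≤ 2 * M' ∧ (M' : ℤ) ≤ 2 * (v : ℤ) ^ 8 → False := by
    intro e N M M' k k' e₀ he T hN ho hNb hM hM' hk hk' hek hek' hc hb hb'
    have hR := R_eq_tor hP h T hr hrR he
    have hR' : ∀ r : ℕ, r.Prime → r ∣ R q → e₀ ∣ od v r := by
      intro s hs hsR
      refine ho _ (hod s hs hsR) (od_dvd (by omega) (hsR.trans ?_))
      rw [hR]; exact hN
    have hcp : ∀ {M k : ℕ}, M ∣ v ^ k - 1 → ¬ e₀ ∣ k → Nat.Coprime (R q) M := fun hM hk =>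
      Nat.coprime_of_dvd fun r hr h1 h2 => hk ((hR' r hr h1).trans (od_dvd (by omega) (h2.trans hM)))
    have L1 : Lam p q M := h.lam hP hM (Or.inl (hcp hk hek))
    have L2 : Lam p q M' := h.lam hP hM' (Or.inl (hcp hk' hek'))
    refine size_false hP (L1.mul L2 hc) (a := 2 * (v : ℤ) ^ 8) (b := (M : ℤ) * M') (by rw [hR]; exact hNb.2)
      (by push_cast; exact le_rfl) (by positivity) ?_
    exact num_e8 hy hb.1 hb'.1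
  rcases hod r hr hrR with h1 | h1 | h1 | h1
  · exact key 15 h1 T15 d15 (by rintro o (rfl | rfl | rfl | rfl) hd <;> revert hd <;> decide) B15 T20.ex T24.ex d20 d24 (by norm_num) (by norm_num) c2024 B20 B24
  · exact key 20 h1 T20 d20 (by rintro o (rfl | rfl | rfl | rfl) hd <;> revert hd <;> decide) B20 T15.ex T24.ex d15 d24 (by norm_num) (by norm_num) c1524 B15 B24
  · exact key 24 h1 T24 d24 (by rintro o (rfl | rfl | rfl | rfl) hd <;> revert hd <;> decide) B24 T15.ex T20.ex d15 d20 (by norm_num) (by norm_num) c1520 B15 B20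
  · refine key 15 h1 T30 d30 (by rintro o (rfl | rfl | rfl | rfl) hd <;> revert hd <;> decide) B30 T20.ex T24.ex d20 d24 (by norm_num) (by norm_num) c2024 B20 B24

end Cfsg.Agent.H371.P4
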