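import Cfsg.Agent.H371.P4.Tor
import Cfsg.Agent.H371.P4.E6
import Cfsg.Agent.H371.TwOrd
import Cfsg.Agent.H371.Core.TwF4
import Cfsg.Agent.H378.TwRows
import Cfsg.Agent.H378.TwRowsF
import Cfsg.Agent.H94.Sp.AC

/-!
# S3591: `³D₄(v)`, `²E₆(v)`, `²F₄(v)`, the Tits group (helper371)
-/

set_option autoImplicit false
set_option linter.unusedSectionVars false

universe u

namespace Cfsg.Agent.H371.P4

open Cfsg Cfsg.Lie
open Cfsg.Agent.H378 Cfsg.Agent.H378.ExcAdj Cfsg.Agent.H493.PGTorus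
open Cfsg.Agent.H379.P4 Cfsg.Agent.H371.CycEval

variable {p q : ℕ}

theorem dvd_ps {s : ℕ} (hs : s.Prime) (hs3 : s ≠ 3) (hs2 : s ≠ 2) (hp : p.Prime) (h : s ∣ ps p) : s = p := by
  unfold ps at h
  split_ifs at h with h3 h2
  · exact absurd ((Nat.prime_dvd_prime_iff_eq hs Nat.prime_three).1 (hs.dvd_of_dvd_pow (show s ∣ 3 ^ 2 from h))) hs3
  · exact absurd ((Nat.prime_dvd_prime_iff_eq hs Nat.prime_two).1 (hs.dvd_of_dvd_pow (show s ∣ 2 ^ 2 from h))) hs2
  · exact (Nat.prime_dvd_prime_iff_eq hs hp).1 h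

theorem ex_prime {S : Type u} [Group S] [Finite S] {s : ℕ} (hs : s.Prime) (h : s ∣ Nat.card S) :
    ∃ x : S, orderOf x = s := by
  have := Fact.mk hs
  exact exists_prime_orderOf_dvd_card' s h

/-- `R = v⁴ - v² + 1` is impossible if the other primes of `v² + v + 1` and `v² - v + 1` divide `|S|` -/
theorem not_c12 {v : ℕ} (hP : Par p q) (hv : 3 ≤ v) (hR : (R q : ℤ) = (v : ℤ) ^ 4 - (v : ℤ) ^ 2 + 1)
    {s t : ℕ} (hs : s.Prime) (ht : t.Prime) (hs3 : s ≠ 3) (ht3 : t ≠ 3) (hs2 : s ≠ 2) (ht2 : t ≠ 2)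
    (h1 : Lam p q s) (h2 : Lam p q t) (hst : s ≠ t)
    (h3 : ¬ (s : ℤ) ∣ (v : ℤ) ^ 2 * ((v : ℤ) ^ 2 - 1)) (h4 : ¬ (t : ℤ) ∣ (v : ℤ) ^ 2 * ((v : ℤ) ^ 2 - 1)) : False := by
  have hvz : (3 : ℤ) ≤ v := by exact_mod_cast hv
  rcases hP.R_eq with ⟨hp2, -, -, h5⟩ | ⟨-, -, h5, -⟩
  · have hE : (E q : ℤ) = (v : ℤ) ^ 2 * ((v : ℤ) ^ 2 - 1) := by
      have : (R q : ℤ) = E q + 1 := by exact_mod_cast h5
      rw [hR] at this
      linarith
    have key : ∀ {s : ℕ}, s.Prime → s ≠ 3 → s ≠ 2 → Lam p q s → ¬ (s : ℤ) ∣ (v : ℤ) ^ 2 * ((v : ℤ) ^ 2 - 1) → s = p := by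
      intro s hs hs3 hs2 h1 h3
      rcases hs.dvd_mul.1 h1 with h6 | h6
      · exact dvd_ps hs hs3 hs2 hP.prime h6
      · exfalso
        apply h3
        rw [← hE]
        exact Int.natCast_dvd_natCast.2 h6
    exact hst ((key hs hs3 hs2 h1 h3).trans (key ht ht3 ht2 h2 h4).symm)
  · have h6 : (q : ℤ) * q = (v : ℤ) ^ 2 * ((v : ℤ) ^ 2 - 1) := by
      have : (R q : ℤ) = q * q + 1 := by exact_mod_cast h5
      rw [hR] at this
      linarith
    obtain ⟨w, hw⟩ : ∃ w : ℕ, v * v = w + 1 := ⟨v * v - 1, by have := Nat.mul_le_mul hv hv; omega⟩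
    have hwz : (v : ℤ) ^ 2 = w + 1 := by rw [pow_two]; exact_mod_cast hw
    rw [hwz] at h6
    have h7 : q * q = (w + 1) * w := by
      have : ((q * q : ℕ) : ℤ) = (((w + 1) * w : ℕ) : ℤ) := by
        push_cast; rw [h6]; ring
      exact_mod_cast this
    have hw1 : 1 ≤ w := by
      have := Nat.mul_le_mul hv hv
      omega
    exact not_sq (a := q) (b := w) (c := (w + 1) * w) (by nlinarith) (by nlinarith) h7

/-- `³D₄(v)` -/
theorem d4t (hP : Par p q) {K : Type u} [Field K] [Fintype K] {v : ℕ} (hq : IsPrimePow v)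
    (hK : Fintype.card K = v ^ 3) (h : Hyp p q ↥(Cfsg.Lie.twistedD4 K v)) : False := by
  have hv2 : 2 ≤ v := hq.two_le
  have hvz : (2 : ℤ) ≤ v := by exact_mod_cast hv2
  have hod : ∀ r : ℕ, r.Prime → r ∣ R q → od v r = 12 := by
    intro r hr hrR
    rcases TwRows.near_3D4 hq hK hr (hrR.trans h.dvd_card) with h1 | h1
    · exact absurd h1.conn.symm (not_conn_two hP h hrR)
    · exact h1
  obtain ⟨M, hM⟩ := exists_nat (x := (v : ℤ) ^ 4 - v ^ 2 + 1) (by nlinarith)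
  have hM0 : M ≠ 0 := by
    rintro rfl
    push_cast at hM
    nlinarith
  have gM := TwOrd.order_3D4 hq hK H493.PGD4T.chainC_ok H493.PGD4T.hThC H493.PGD4T.eigC_12 (by decide) (N := M) hM0
    (by rw [H493.PGCyc.pv_c12, hM])
  obtain ⟨r, hr, hr2, hrR, hrS⟩ := h.exists_prime hP
  have hR : R q = M := by
    refine R_eq hP h hr hrR gM ?_ ?_
    · have h1 := H378.CycTab.dvd12 hr (hod r hr hrR)
      rw [H378.CycTab.pv12, ← hM] at h1
      exact Int.natCast_dvd_natCast.1 h1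
    · intro x hx
      have h1 := (TwRows.cent_3D4 hq hK hr hx (hod r hr hrR)).2
      rw [TwRows.eval_cyc12, ← hM, Int.natAbs_natCast] at h1
      exact h1
  have hRz : (R q : ℤ) = (v : ℤ) ^ 4 - (v : ℤ) ^ 2 + 1 := by rw [hR, hM]
  have hcard := Cfsg.Agent.S1067.result hq hK
  rcases (by omega : v = 2 ∨ 3 ≤ v) with rfl | h3
  · have := hP.R_big
    norm_num at hRz
    omega
  · obtain ⟨w, rfl⟩ : ∃ w, v = w + 1 := ⟨v - 1, by omega⟩
    obtain ⟨s, hs, hs3, hs2, hsd⟩ := ExcNear.exists_three (q := w + 1) (by omega)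
    obtain ⟨t, ht, ht3, ht2, htd⟩ := ExcNear.exists_three (q := w) (by omega)
    have hsz : (s : ℤ) ∣ ((w + 1 : ℕ) : ℤ) ^ 2 + ((w + 1 : ℕ) : ℤ) + 1 := by exact_mod_cast hsd
    have htz : (t : ℤ) ∣ ((w + 1 : ℕ) : ℤ) ^ 2 - ((w + 1 : ℕ) : ℤ) + 1 := by
      have h1 : (t : ℤ) ∣ (w : ℤ) ^ 2 + (w : ℤ) + 1 := by exact_mod_cast htd
      refine h1.trans (dvd_of_eq ?_)
      push_cast; ring
    have hvz3 : (3 : ℤ) ≤ ((w + 1 : ℕ) : ℤ) := by exact_mod_cast h3
    generalize hvw : ((w + 1 : ℕ) : ℤ) = x at hsz htz hRz hvz3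
    have hs' : Prime (s : ℤ) := Nat.prime_iff_prime_int.1 hs
    have ht' : Prime (t : ℤ) := Nat.prime_iff_prime_int.1 ht
    have d3 : ∀ {r : ℕ}, r.Prime → r ≠ 3 → ¬ (r : ℤ) ∣ 3 := by
      intro r hr hr3 h
      exact hr3 ((Nat.prime_dvd_prime_iff_eq hr Nat.prime_three).1 (Int.natCast_dvd_natCast.1 (by simpa using h)))
    have n1 : ¬ (s : ℤ) ∣ x ^ 2 * (x ^ 2 - 1) := by
      intro h1
      refine d3 hs hs3 ?_
      have e : (3 : ℤ) = (x ^ 2 + x + 1) * (3 + (-3) * x + (-1) * x ^ 2 + 2 * x ^ 3) +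
          x ^ 2 * (x ^ 2 - 1) * ((-1) + (-2) * x) := by ring
      rw [e]
      exact dvd_add (hsz.mul_right _) (h1.mul_right _)
    have n2 : ¬ (t : ℤ) ∣ x ^ 2 * (x ^ 2 - 1) := by
      intro h1
      refine d3 ht ht3 ?_
      have e : (3 : ℤ) = (x ^ 2 - x + 1) * (3 + 3 * x + (-1) * x ^ 2 + (-2) * x ^ 3) +
          x ^ 2 * (x ^ 2 - 1) * ((-1) + 2 * x) := by ring
      rw [e]
      exact dvd_add (htz.mul_right _) (h1.mul_right _)
    have hst : s ≠ t := by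
      rintro rfl
      have h1 : (s : ℤ) ∣ 2 * x := by
        have : 2 * x = (x ^ 2 + x + 1) - (x ^ 2 - x + 1) := by ring
        rw [this]; exact dvd_sub hsz htz
      rcases hs'.dvd_or_dvd h1 with h2 | h2
      · exact hs2 ((Nat.prime_dvd_prime_iff_eq hs Nat.prime_two).1 (Int.natCast_dvd_natCast.1 (by simpa using h2)))
      · exact n1 ((h2.mul_right x).trans (by rw [← pow_two]; exact dvd_mul_right _ _))
    have hcardz : (Nat.card ↥(twistedD4 K (w + 1)) : ℤ) =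
        x ^ 12 * (x ^ 2 - 1) * (x ^ 6 - 1) * ((x ^ 2 + x + 1) * (x ^ 2 - x + 1) * (x ^ 4 - x ^ 2 + 1)) := by
      rw [hcard]
      have e2 : 1 ≤ (w + 1) ^ 2 := Nat.one_le_pow _ _ (by omega)
      have e6 : 1 ≤ (w + 1) ^ 6 := Nat.one_le_pow _ _ (by omega)
      have hxw : x = (w : ℤ) + 1 := by rw [← hvw]; push_cast; ring
      push_cast [Nat.cast_sub e2, Nat.cast_sub e6]
      rw [hxw]
      ring
    have gs : ∃ g : ↥(twistedD4 K (w + 1)), orderOf g = s := ex_prime hs (by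
      apply Int.natCast_dvd_natCast.1
      rw [hcardz]
      exact dvd_mul_of_dvd_right ((hsz.mul_right _).mul_right _) _)
    have gt : ∃ g : ↥(twistedD4 K (w + 1)), orderOf g = t := ex_prime ht (by
      apply Int.natCast_dvd_natCast.1
      rw [hcardz]
      exact dvd_mul_of_dvd_right ((htz.mul_left _).mul_right _) _)
    have Ls : Lam p q s := h.lam hP gs (Or.inl (cop_of (v := w + 1) (k := 3) (by omega) hod (by
      apply Int.natCast_dvd_natCast.1
      rw [Nat.cast_sub (Nat.one_le_pow _ _ (by omega)), Nat.cast_pow, hvw, Nat.cast_one]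
      exact hsz.trans ⟨x - 1, by ring⟩) (by norm_num)))
    have Lt : Lam p q t := h.lam hP gt (Or.inl (cop_of (v := w + 1) (k := 6) (by omega) hod (by
      apply Int.natCast_dvd_natCast.1
      rw [Nat.cast_sub (Nat.one_le_pow _ _ (by omega)), Nat.cast_pow, hvw, Nat.cast_one]
      exact htz.trans ⟨(x + 1) * (x ^ 3 - 1), by ring⟩) (by norm_num)))
    exact not_c12 (v := w + 1) hP h3 (by rw [hvw]; exact hRz) hs ht hs3 ht3 hs2 ht2 Ls Lt hst
      (by rw [hvw]; exact n1) (by rw [hvw]; exact n2)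

/-! ### `²E₆(v)` -/

theorem num_2e6 {v R N : ℤ} (hv : 2 ≤ v) (hR : R ≤ v ^ 6 - v ^ 3 + 1)
    (hN : N = (v ^ 4 - v ^ 3 + v ^ 2 - v + 1) * (v ^ 4 + 1) * (v ^ 4 - v ^ 2 + 1)) :
    R ≤ v ^ 6 ∧ 2 * (v ^ 6) ^ 3 ≤ N ^ 2 := by
  have hv0 : 0 ≤ v := by linarith
  have hy : 64 ≤ v ^ 6 := by
    calc (64 : ℤ) = 2 ^ 6 := by norm_num
      _ ≤ v ^ 6 := pow_le_pow_left₀ (by norm_num) hv 6
  have hv3 : 8 ≤ v ^ 3 := by
    calc (8 : ℤ) = 2 ^ 3 := by norm_num
      _ ≤ v ^ 3 := pow_le_pow_left₀ (by norm_num) hv 3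
  have hv2 : 4 ≤ v ^ 2 := by nlinarith
  refine ⟨by linarith, ?_⟩
  have hp4 : 0 ≤ v ^ 4 := by positivity
  have a1 : v ^ 4 ≤ 2 * (v ^ 4 - v ^ 3 + v ^ 2 - v + 1) := by
    have h1 : v ^ 4 = v ^ 3 * v := by ring
    have h2 : v ^ 2 = v * v := by ring
    have h3 : v ^ 3 * 2 ≤ v ^ 3 * v := mul_le_mul_of_nonneg_left hv (by positivity)
    nlinarith
  have a2 : v ^ 4 ≤ v ^ 4 + 1 := by linarith
  have a3 : v ^ 4 ≤ 2 * (v ^ 4 - v ^ 2 + 1) := by
    have : v ^ 4 = v ^ 2 * v ^ 2 := by ring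
    nlinarith
  have hN2 : v ^ 6 * v ^ 6 ≤ 4 * N := by
    calc v ^ 6 * v ^ 6 = v ^ 4 * v ^ 4 * v ^ 4 := by ring
      _ ≤ (2 * (v ^ 4 - v ^ 3 + v ^ 2 - v + 1)) * (v ^ 4 + 1) * (2 * (v ^ 4 - v ^ 2 + 1)) :=
          mul_le_mul (mul_le_mul a1 a2 hp4 (by linarith)) a3 hp4 (mul_nonneg (by linarith) (by positivity))
      _ = 4 * N := by rw [hN]; ring
  clear hN a1 a2 a3 hp4 hv3 hv2 hR
  generalize v ^ 6 = y at *
  have h1 : (y * y) ^ 2 ≤ (4 * N) ^ 2 := pow_le_pow_left₀ (by positivity) hN2 2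
  have h2 : 64 * y ^ 3 ≤ (y * y) ^ 2 := by
    have h3 : 0 ≤ y ^ 3 := by positivity
    have h4 : (y * y) ^ 2 = y ^ 3 * y := by ring
    rw [h4, mul_comm]
    exact mul_le_mul_of_nonneg_left hy h3
  have h5 : (4 * N) ^ 2 = 16 * N ^ 2 := by ring
  have h3 : 0 ≤ y ^ 3 := by positivity
  linarith

theorem e6t (hP : Par p q) {K : Type u} [Field K] [Fintype K] {v : ℕ} (hq : IsPrimePow v)
    (hK : Fintype.card K = v ^ 2) (h : Hyp p q ↥(Cfsg.Lie.twistedE6 K v)) : False := by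
  have hv2 : 2 ≤ v := hq.two_le
  have hvz : (2 : ℤ) ≤ v := by exact_mod_cast hv2
  have hnear : ∀ r : ℕ, r.Prime → r ∣ R q → od v r = 18 ∨ (v = 2 ∧ (r = 13 ∨ r = 17)) := by
    intro r hr hrR
    rcases TwRows.near_2E6 hq hK hr (hrR.trans h.dvd_card) with h1 | h1
    · exact absurd h1.conn.symm (not_conn_two hP h hrR)
    · exact h1
  have hcard := Cfsg.Agent.S1066.result hq hK
  obtain ⟨r, hr, hr2, hrR, hrS⟩ := h.exists_prime hP
  by_cases hv : v = 2
  · subst hv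
    have hN : Nat.card ↥(twistedE6 K 2) = 4199 * 18226358581513420800 := by
      norm_num at hcard
      omega
    have hRd : R q ∣ 4199 := by
      refine dvd_of_coprime (b := 18226358581513420800) (by rw [← hN]; exact h.dvd_card) ?_
      intro r hr hrR
      rcases hnear r hr hrR with h1 | ⟨-, rfl | rfl⟩
      · have h8 := H378.CycTab.dvd18 hr h1
        rw [H378.CycTab.pv18] at h8
        norm_num at h8
        have h8 : r ∣ 3 * 19 := by exact_mod_cast h8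
        rcases hr.dvd_mul.1 h8 with h8 | h8
        · exfalso
          rw [(Nat.prime_dvd_prime_iff_eq hr Nat.prime_three).1 h8] at h1
          have := (H371.Core.od_facts Nat.prime_three (by norm_num) h1).2
          omega
        · rw [(Nat.prime_dvd_prime_iff_eq hr (by norm_num)).1 h8]
          norm_num
      · norm_num
      · norm_num
    have h19 : ¬ 19 ∣ R q → Lam p q 19 := by
      intro h1
      refine h.lam hP (ex_prime (by norm_num) (by rw [hN]; norm_num)) (Or.inl ?_)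
      rw [Nat.coprime_comm, Nat.Prime.coprime_iff_not_dvd (by norm_num)]
      exact h1
    have hmem : R q ∈ Nat.divisors 4199 := Nat.mem_divisors.2 ⟨hRd, by norm_num⟩
    rw [show Nat.divisors 4199 = {1, 13, 17, 19, 221, 247, 323, 4199} by decide +kernel] at hmem
    simp only [Finset.mem_insert, Finset.mem_singleton] at hmem
    have hbig := hP.R_big
    rcases hmem with h2 | h2 | h2 | h2 | h2 | h2 | h2 | h2
    · omega
    · omega
    · -- `q = 4`
      have h3 := h19 (by rw [h2]; norm_num)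
      have hq4 : q = 4 := by
        rcases R_ne hP h2 with h4 | h4
        · nlinarith
        · exact (not_sq (a := q) (b := 5) (c := q * q) (by omega) (by omega) rfl).elim
      have hp2 : p = 2 := by
        have := hP.p_dvd
        rw [hq4] at this
        exact (Nat.prime_dvd_prime_iff_eq hP.prime Nat.prime_two).1 (hP.prime.dvd_of_dvd_pow (show p ∣ 2 ^ 2 from this))
      have hE : E q = 15 := by
        rcases hP.R_eq with ⟨h5, -, -, -⟩ | ⟨-, -, -, h5⟩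
        · exact absurd hp2 h5
        · omega
      unfold Lam ps at h3
      rw [hE, hp2] at h3
      norm_num at h3
    · exact R_not hP h2 4 6 (by norm_num)
    · -- `q = 21`
      have h3 := h19 (by rw [h2]; norm_num)
      have hq21 : q = 21 := by
        rcases R_ne hP h2 with h4 | h4
        · exact (not_sq (a := q) (b := 14) (c := q * q) (by omega) (by omega) rfl).elim
        · nlinarith
      have hp37 : p = 3 ∨ p = 7 := by
        have := hP.p_dvd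
        rw [hq21] at this
        rcases hP.prime.dvd_mul.1 (show p ∣ 3 * 7 from this) with h5 | h5
        · exact Or.inl ((Nat.prime_dvd_prime_iff_eq hP.prime Nat.prime_three).1 h5)
        · exact Or.inr ((Nat.prime_dvd_prime_iff_eq hP.prime (by norm_num)).1 h5)
      have hE : E q = 220 := by
        rcases hP.R_eq with ⟨-, -, -, h5⟩ | ⟨h5, -, -, -⟩
        · omega
        · omega
      unfold Lam ps at h3
      rw [hE] at h3
      rcases hp37 with h5 | h5 <;> rw [h5] at h3 <;> norm_num at h3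
    · exact R_not hP h2 15 22 (by norm_num)
    · exact R_not hP h2 17 25 (by norm_num)
    · exact R_not hP h2 64 91 (by norm_num)
  · have hod : ∀ r : ℕ, r.Prime → r ∣ R q → od v r = 18 := by
      intro r hr hrR
      rcases hnear r hr hrR with h1 | h1
      · exact h1
      · exact absurd h1.1 hv
    have hcop : ∀ {M k : ℕ}, M ∣ v ^ k - 1 → ¬ 18 ∣ k → Nat.Coprime (R q) M := fun hM hk =>
      cop_of (by omega) hod hM hk
    have hv3 : (8 : ℤ) ≤ (v : ℤ) ^ 3 := by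
      calc (8 : ℤ) = 2 ^ 3 := by norm_num
        _ ≤ (v : ℤ) ^ 3 := pow_le_pow_left₀ (by norm_num) hvz 3
    obtain ⟨M10, hM10⟩ := exists_nat (x := (v : ℤ) ^ 4 - v ^ 3 + v ^ 2 - v + 1) (by
      have h1 : (v : ℤ) ^ 4 = (v : ℤ) ^ 3 * v := by ring
      have h2 : (v : ℤ) ^ 2 = (v : ℤ) * v := by ring
      rw [h1, h2]
      nlinarith)
    obtain ⟨M8, hM8⟩ := exists_nat (x := (v : ℤ) ^ 4 + 1) (by positivity)
    obtain ⟨M12, hM12⟩ := exists_nat (x := (v : ℤ) ^ 4 - v ^ 2 + 1) (by nlinarith)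
    have k10 : Nat.Coprime M10 3 := cop_three (by
      have := congrArg (Int.cast : ℤ → ZMod 3) hM10
      push_cast at this
      rw [this]
      exact (by decide : ∀ x : ZMod 3, x ^ 4 - x ^ 3 + x ^ 2 - x + 1 ≠ 0) _)
    have k8 : Nat.Coprime M8 3 := cop_three (by
      have := congrArg (Int.cast : ℤ → ZMod 3) hM8
      push_cast at this
      rw [this]
      exact (by decide : ∀ x : ZMod 3, x ^ 4 + 1 ≠ 0) _)
    have k12 : Nat.Coprime M12 3 := cop_three (by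
      have := congrArg (Int.cast : ℤ → ZMod 3) hM12
      push_cast at this
      rw [this]
      exact (by decide : ∀ x : ZMod 3, x ^ 4 - x ^ 2 + 1 ≠ 0) _)
    have ne0 : ∀ {M : ℕ}, Nat.Coprime M 3 → M ≠ 0 := by
      rintro M h rfl
      norm_num at h
    have cg : ∀ {M : ℕ}, Nat.Coprime M 3 → Nat.Coprime M (Nat.gcd 3 (v + 1)) := fun h =>
      Nat.Coprime.coprime_dvd_right (Nat.gcd_dvd_left _ _) h
    have g10 := TwOrd.order_2E6 hq hK H493.PGE6T.chainD_ok H493.PGE6T.hThD H493.PGE6T.eigD_10 (by decide) (N := M10)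
      (ne0 k10) (cg k10) (by rw [H493.PGCyc.pv_c10, hM10])
    have g8 := TwOrd.order_2E6 hq hK H493.PGE6T.chainE_ok H493.PGE6T.hThE H493.PGE6T.eigE_8 (by decide) (N := M8)
      (ne0 k8) (cg k8) (by rw [H493.PGCyc.pv_c8, hM8])
    have g12 := TwOrd.order_2E6 hq hK H493.PGE6T.chainF_ok H493.PGE6T.hThF H493.PGE6T.eigF_12 (by decide) (N := M12)
      (ne0 k12) (cg k12) (by rw [H493.PGCyc.pv_c12, hM12])
    have L10 : Lam p q M10 := h.lam hP g10 (Or.inl (hcop (k := 10)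
      (dvd_pow_sub_one (by omega) (c := ((v : ℤ) + 1) * ((v : ℤ) ^ 5 - 1)) (by rw [hM10]; ring)) (by norm_num)))
    have L8 : Lam p q M8 := h.lam hP g8 (Or.inl (hcop (k := 8)
      (dvd_pow_sub_one (by omega) (c := (v : ℤ) ^ 4 - 1) (by rw [hM8]; ring)) (by norm_num)))
    have L12 : Lam p q M12 := h.lam hP g12 (Or.inl (hcop (k := 12)
      (dvd_pow_sub_one (by omega) (c := ((v : ℤ) ^ 2 + 1) * ((v : ℤ) ^ 6 - 1)) (by rw [hM12]; ring)) (by norm_num)))
    have c108 : Nat.Coprime M10 M8 := cop_int (x := 1 * (v : ℤ) ^ 1 + 1 * (v : ℤ) ^ 2 + 1 * (v : ℤ) ^ 3)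
      (y := 1 + (-1) * (v : ℤ) ^ 1 + (-1) * (v : ℤ) ^ 3) (by rw [hM10, hM8]; ring)
    have c1012 : Nat.Coprime M10 M12 := cop_int
      (x := 2 + 1 * (v : ℤ) ^ 1 + (-2) * (v : ℤ) ^ 2 + (-2) * (v : ℤ) ^ 3)
      (y := (-1) + 1 * (v : ℤ) ^ 1 + 2 * (v : ℤ) ^ 3) (by rw [hM10, hM12]; ring)
    have c812 : Nat.Coprime M8 M12 := cop_int (x := 1 + (-1) * (v : ℤ) ^ 2) (y := 1 * (v : ℤ) ^ 2)
      (by rw [hM8, hM12]; ring)
    have L := (L10.mul L8 c108).mul L12 (Nat.Coprime.mul_left c1012 c812)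
    have hRd : R q ∣ ((Polynomial.cyclotomic 18 ℤ).eval (v : ℤ)).natAbs := by
      refine R_dvd hP h hrR fun x hx => ?_
      exact (TwRows.cent_2E6 hq hK hr hx (hod r hr hrR)).2
    have hR18 : (R q : ℤ) ≤ (v : ℤ) ^ 6 - (v : ℤ) ^ 3 + 1 := by
      have hpos : 0 < (v : ℤ) ^ 6 - (v : ℤ) ^ 3 + 1 := by
        have : (v : ℤ) ^ 6 = (v : ℤ) ^ 3 * (v : ℤ) ^ 3 := by ring
        nlinarith
      rw [TwRows.eval_cyc18] at hRd
      have h1 := Nat.le_of_dvd (Int.natAbs_pos.2 hpos.ne') hRd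
      have h2 : ((R q : ℕ) : ℤ) ≤ (((v : ℤ) ^ 6 - (v : ℤ) ^ 3 + 1).natAbs : ℤ) := by exact_mod_cast h1
      rwa [Int.natCast_natAbs, abs_of_pos hpos] at h2
    have hb : ((M10 * M8 * M12 : ℕ) : ℤ) = ((v : ℤ) ^ 4 - v ^ 3 + v ^ 2 - v + 1) * ((v : ℤ) ^ 4 + 1) *
        ((v : ℤ) ^ 4 - v ^ 2 + 1) := by
      push_cast; rw [hM10, hM8, hM12]
    obtain ⟨n1, n2⟩ := num_2e6 hvz hR18 (N := ((M10 * M8 * M12 : ℕ) : ℤ)) hb
    exact size_false hP L n1 le_rfl (by positivity) n2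

end Cfsg.Agent.H371.P4
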