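import Cfsg.Agent.H371.P4.Tw

/-!
# S3591: `²F₄(v)`, the Tits group (helper371)
-/

set_option autoImplicit false
set_option linter.unusedSectionVars false

universe u

namespace Cfsg.Agent.H371.P4

open Cfsg Cfsg.Lie
open Cfsg.Agent.H378 Cfsg.Agent.H378.ExcAdj Cfsg.Agent.H493.PGTorus
open Cfsg.Agent.H379.P4 Cfsg.Agent.H371.CycEval
open Cfsg.Agent.H493

variable {p q : ℕ}

theorem tits (hP : Par p q) {S : Type u} [Group S] [Finite S] (hT : Cfsg.Lie.IsoTits S) (h : Hyp p q S) : False := by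
  have hN : Nat.card S = 13 * 1382400 := NotCT.Orders.tits hT
  have hRd : R q ∣ 13 := by
    refine dvd_of_coprime (b := 1382400) (by rw [← hN]; exact h.dvd_card) ?_
    intro r hr hrR h1
    have h13 : ¬ (13 : ℕ) ∣ 1382400 := by norm_num
    by_cases hr13 : r = 13
    · exact h13 (hr13 ▸ h1)
    · have h2 := H94.PG.Sp.nr_tits hT hr (h1.trans (by norm_num)) (by simpa using hr13)
      exact not_conn_two hP h hrR h2.conn.symm
  have := Nat.le_of_dvd (by norm_num) hRd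
  have := hP.R_big
  omega

theorem num_f4 {b R N : ℤ} (hb : 2 ≤ b) (hR : R ≤ 4 * b ^ 4 + 4 * b ^ 3 + 2 * b ^ 2 + 2 * b + 1)
    (hN : (4 * b ^ 4 - 4 * b ^ 3 + 2 * b ^ 2 - 2 * b + 1) * (4 * b ^ 4 + 1) ≤ N) :
    R ≤ 8 * b ^ 4 ∧ 2 * (8 * b ^ 4) ^ 3 ≤ N ^ 2 := by
  have hb0 : 0 ≤ b := by linarith
  have h2 : b * 2 ≤ b ^ 2 := by nlinarith
  have h3 : b ^ 2 * 2 ≤ b ^ 3 := by
    have : b ^ 3 = b ^ 2 * b := by ring
    rw [this]; exact mul_le_mul_of_nonneg_left hb (by positivity)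
  have h4 : b ^ 3 * 2 ≤ b ^ 4 := by
    have : b ^ 4 = b ^ 3 * b := by ring
    rw [this]; exact mul_le_mul_of_nonneg_left hb (by positivity)
  have h16 : 16 ≤ b ^ 4 := by linarith
  refine ⟨by linarith, ?_⟩
  have a1 : 2 * b ^ 4 ≤ 4 * b ^ 4 - 4 * b ^ 3 + 2 * b ^ 2 - 2 * b + 1 := by linarith
  have hN2 : 8 * (b ^ 4 * b ^ 4) ≤ N := by
    calc 8 * (b ^ 4 * b ^ 4) = (2 * b ^ 4) * (4 * b ^ 4) := by ring
      _ ≤ (4 * b ^ 4 - 4 * b ^ 3 + 2 * b ^ 2 - 2 * b + 1) * (4 * b ^ 4 + 1) :=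
          mul_le_mul a1 (by linarith) (by positivity) (by linarith)
      _ ≤ N := hN
  clear hN a1 h2 h3 h4 hR
  generalize b ^ 4 = y at *
  have h1 : (8 * (y * y)) ^ 2 ≤ N ^ 2 := pow_le_pow_left₀ (by positivity) hN2 2
  have h3 : 0 ≤ y ^ 3 := by positivity
  have h5 : 16 * y ^ 3 ≤ y * y ^ 3 := mul_le_mul_of_nonneg_right h16 h3
  have h6 : (8 * (y * y)) ^ 2 = 64 * (y * y ^ 3) := by ring
  have h7 : 2 * (8 * y) ^ 3 = 1024 * y ^ 3 := by ring
  rw [h7]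
  linarith

set_option maxHeartbeats 2000000 in
theorem f4t (hP : Par p q) {K : Type u} [Field K] [Fintype K] {m : ℕ} (hm : 1 ≤ m)
    (hK : Fintype.card K = 2 ^ (2 * m + 1)) (h : Hyp p q ↥(Cfsg.Lie.twistedF4 K (2 ^ m))) : False := by
  have hcard := Cfsg.Agent.S1068.result hK
  have hb : (2 : ℤ) ≤ 2 ^ m := by
    calc (2 : ℤ) = 2 ^ 1 := by norm_num
      _ ≤ 2 ^ m := pow_le_pow_right₀ (by norm_num) hm
  obtain ⟨v, hv⟩ : ∃ v : ℕ, v = 2 ^ (2 * m + 1) := ⟨_, rfl⟩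
  generalize hbb : ((2 : ℤ) ^ m) = b at hb
  have hvb : (v : ℤ) = 2 * b ^ 2 := by
    rw [hv, ← hbb, ← pow_mul]
    push_cast
    ring
  have hPpos : 0 < PGF4T.fP b := by unfold PGF4T.fP; positivity
  have hMpos : 0 < PGF4T.fM b := by
    unfold PGF4T.fM
    nlinarith [pow_pos (by linarith : (0 : ℤ) < b) 3, mul_pos (pow_pos (by linarith : (0 : ℤ) < b) 3) (by linarith : (0 : ℤ) < b - 1)]
  have hppos : 0 < PGF4T.fp b := by unfold PGF4T.fp; positivity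
  have hmpos : 0 < PGF4T.fm b := by unfold PGF4T.fm; nlinarith
  obtain ⟨P, hPz⟩ := exists_nat hPpos
  obtain ⟨M, hMz⟩ := exists_nat hMpos
  obtain ⟨A, hAz⟩ := exists_nat hppos
  obtain ⟨C, hCz⟩ := exists_nat hmpos
  have gP := H371.Core.TwF4.exists_cert hK PGF4T.chainEp_ok PGF4T.hThEp PGF4T.certEp_fP (N := P) (by rw [hPz, hbb])
  have gM := H371.Core.TwF4.exists_cert hK PGF4T.chainEm_ok PGF4T.hThEm PGF4T.certEm_fM (N := M) (by rw [hMz, hbb])
  have gA := H371.Core.TwF4.exists_cert hK PGF4T.chainB_ok PGF4T.hThB PGF4T.certB_fp (N := A) (by rw [hAz, hbb])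
  have gC := H371.Core.TwF4.exists_cert hK PGF4T.chainC_ok PGF4T.hThC PGF4T.certC_fm (N := C) (by rw [hCz, hbb])
  -- parity, the prime 3
  have hodd : ∀ {N : ℕ} {z : ℤ}, (N : ℤ) = 2 * z + 1 → N % 2 = 1 := by intro N z hz; omega
  have oP : P % 2 = 1 := hodd (z := 2 * b ^ 4 + 2 * b ^ 3 + b ^ 2 + b) (by rw [hPz]; unfold PGF4T.fP; ring)
  have oM : M % 2 = 1 := hodd (z := 2 * b ^ 4 - 2 * b ^ 3 + b ^ 2 - b) (by rw [hMz]; unfold PGF4T.fM; ring)
  have oA : A % 2 = 1 := hodd (z := b ^ 2 + b) (by rw [hAz]; unfold PGF4T.fp; ring)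
  have oC : C % 2 = 1 := hodd (z := b ^ 2 - b) (by rw [hCz]; unfold PGF4T.fm; ring)
  have cop2 : ∀ {X Y : ℕ} {x y : ℤ}, X % 2 = 1 → x * X + y * Y = 2 → Nat.Coprime X Y := by
    intro X Y x y hX hxy
    refine Nat.coprime_of_dvd fun r hr h1 h2 => ?_
    have h3 : (r : ℤ) ∣ 2 := by
      rw [← hxy]
      exact dvd_add ((Int.natCast_dvd_natCast.2 h1).mul_left _) ((Int.natCast_dvd_natCast.2 h2).mul_left _)
    have h4 : r = 2 := (Nat.prime_dvd_prime_iff_eq hr Nat.prime_two).1 (by exact_mod_cast h3)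
    subst h4
    omega
  have cPM : Nat.Coprime P M := cop2 (x := 1 - b) (y := 1 + b) oP (by
    rw [hPz, hMz]; unfold PGF4T.fP PGF4T.fM; ring)
  have cAC : Nat.Coprime A C := cop2 (x := 1 - b) (y := 1 + b) oA (by
    rw [hAz, hCz]; unfold PGF4T.fp PGF4T.fm; ring)
  have hAC : ((A * C : ℕ) : ℤ) = 4 * b ^ 4 + 1 := by
    push_cast; rw [hAz, hCz]; unfold PGF4T.fp PGF4T.fm; ring
  have k3 : Nat.Coprime (A * C) 3 := cop_three (by
    have := congrArg (Int.cast : ℤ → ZMod 3) hAC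
    push_cast at this
    push_cast
    rw [this]
    exact (by decide : ∀ x : ZMod 3, 4 * x ^ 4 + 1 ≠ 0) _)
  have cop3 : ∀ {X : ℕ} {x y : ℤ}, x * X + y * ((A * C : ℕ) : ℤ) = 3 → Nat.Coprime X (A * C) := by
    intro X x y hxy
    refine Nat.coprime_of_dvd fun r hr h1 h2 => ?_
    have h3 : (r : ℤ) ∣ 3 := by
      rw [← hxy]
      exact dvd_add ((Int.natCast_dvd_natCast.2 h1).mul_left _) ((Int.natCast_dvd_natCast.2 h2).mul_left _)
    have h4 : r = 3 := (Nat.prime_dvd_prime_iff_eq hr Nat.prime_three).1 (by exact_mod_cast h3)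
    subst h4
    exact absurd (Nat.dvd_gcd h2 dvd_rfl) (by rw [k3]; norm_num)
  have cMN : Nat.Coprime M (A * C) := cop3 (x := 2 * b + 2 * b ^ 2 + 4 * b ^ 3) (y := 3 - 2 * b + 2 * b ^ 2 - 4 * b ^ 3) (by
    rw [hMz, hAC]; unfold PGF4T.fM; ring)
  have cPN : Nat.Coprime P (A * C) := cop3 (x := -2 * b + 2 * b ^ 2 - 4 * b ^ 3) (y := 3 + 2 * b + 2 * b ^ 2 + 4 * b ^ 3) (by
    rw [hPz, hAC]; unfold PGF4T.fP; ring)
  -- the orders of `v`
  have hcK : Nat.card K = v := by rw [Nat.card_eq_fintype_card, hK, hv]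
  have hod : ∀ r : ℕ, r.Prime → r ∣ R q → od v r = 12 := by
    intro r hr hrR
    rcases TwRowsF.near_2F4 hm hK hr (hrR.trans h.dvd_card) with h1 | h1
    · exact absurd h1.conn.symm (not_conn_two hP h hrR)
    · rwa [hcK] at h1
  have hv8 : 8 ≤ v := by
    have : (8 : ℤ) ≤ v := by rw [hvb]; nlinarith
    exact_mod_cast this
  have hACd : A * C ∣ v ^ 4 - 1 := dvd_pow_sub_one (by omega) (c := (v : ℤ) ^ 2 - 1) (by rw [hAC, hvb]; ring)
  have LA : Lam p q A := h.lam hP gA (Or.inl (cop_of (by omega) hod ((Dvd.intro _ rfl).trans hACd) (by norm_num)))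
  have LC : Lam p q C := h.lam hP gC (Or.inl (cop_of (by omega) hod ((Dvd.intro_left _ rfl).trans hACd) (by norm_num)))
  have LAC : Lam p q (A * C) := LA.mul LC cAC
  -- the order
  have hPM : (P : ℤ) * M = (v : ℤ) ^ 4 - (v : ℤ) ^ 2 + 1 := by
    rw [hPz, hMz, hvb]
    unfold PGF4T.fP PGF4T.fM
    ring
  have hv4 : 1 ≤ v ^ 4 := Nat.one_le_pow _ _ (by omega)
  obtain ⟨T, hT⟩ : ∃ T : ℕ, T = v ^ 12 * (v - 1) * (v ^ 3 + 1) * (v ^ 4 - 1) * (v ^ 2 + 1) := ⟨_, rfl⟩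
  have hT1 : Nat.card ↥(twistedF4 K (2 ^ m)) = T * (P * M) := by
    rw [hcard, ← hv, hT]
    have h1 : v ^ 6 + 1 = (v ^ 2 + 1) * (P * M) := by
      have : (v : ℤ) ^ 6 + 1 = ((v : ℤ) ^ 2 + 1) * ((P : ℤ) * M) := by
        rw [hPM]; ring
      exact_mod_cast this
    rw [h1]
    ring
  have hT2 : ∀ r : ℕ, r.Prime → r ∣ T → H94.PG.Conn ↥(twistedF4 K (2 ^ m)) 2 r := by
    intro r hr hd
    refine (H371.Core.conn_of_conn (PGF4T.conn_main hm hK hr ?_)).symm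
    rw [hbb]
    have hr' : Prime (r : ℤ) := Nat.prime_iff_prime_int.1 hr
    have h2 := Int.natCast_dvd_natCast.2 hd
    rw [hT, Nat.cast_mul, Nat.cast_mul, Nat.cast_mul, Nat.cast_mul, Nat.cast_sub (by omega : 1 ≤ v),
      Nat.cast_sub hv4] at h2
    push_cast at h2
    by_cases h0 : (r : ℤ) ∣ (v : ℤ) ^ 12
    · have h3 := hr'.dvd_of_dvd_pow h0
      have h4 : r ∣ v := Int.natCast_dvd_natCast.1 h3
      rw [hv] at h4
      exact Or.inl ((Nat.prime_dvd_prime_iff_eq hr Nat.prime_two).1 (hr.dvd_of_dvd_pow h4))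
    · rw [hvb] at h2 h0
      have e : (2 * b ^ 2) ^ 12 * (2 * b ^ 2 - 1) * ((2 * b ^ 2) ^ 3 + 1) * ((2 * b ^ 2) ^ 4 - 1) * ((2 * b ^ 2) ^ 2 + 1) =
          (2 * b ^ 2) ^ 12 * PGF4T.f1 b * (PGF4T.f2 b * PGF4T.f6 b) *
            (PGF4T.f1 b * PGF4T.f2 b * PGF4T.fp b * PGF4T.fm b) * (PGF4T.fp b * PGF4T.fm b) := by
        unfold PGF4T.f1 PGF4T.f2 PGF4T.f6 PGF4T.fp PGF4T.fm; ring
      rw [e] at h2
      simp only [hr'.dvd_mul] at h2
      tauto
  have hRPM : R q ∣ P * M := by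
    refine dvd_of_coprime (b := T) ?_ fun r hr hrR hrT => not_conn_two hP h hrR (hT2 r hr hrT)
    rw [mul_comm, ← hT1]
    exact h.dvd_card
  have hbig := hP.R_big
  have hdvd : ∀ {X : ℕ}, (∃ g : ↥(twistedF4 K (2 ^ m)), orderOf g = X) → ¬ Nat.Coprime (R q) X → X ∣ R q := by
    rintro X ⟨g, hg⟩ hc
    obtain ⟨r, hr, h1, h2⟩ := Nat.Prime.not_coprime_iff_dvd.1 hc
    have := hP.om_coprime (h.om g) ⟨r, hr, h1, by rw [hg]; exact h2⟩
    rwa [hg] at this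
  have hfin : ∀ {X Y : ℕ}, R q = X → Nat.Coprime X Y → Nat.Coprime Y (A * C) →
      (∃ g : ↥(twistedF4 K (2 ^ m)), orderOf g = Y) →
      (X : ℤ) ≤ 4 * b ^ 4 + 4 * b ^ 3 + 2 * b ^ 2 + 2 * b + 1 →
      (4 * b ^ 4 - 4 * b ^ 3 + 2 * b ^ 2 - 2 * b + 1) ≤ (Y : ℤ) → False := by
    intro X Y hRX hXY hYN hgY hXle hYle
    have LY : Lam p q Y := h.lam hP hgY (Or.inl (by rw [hRX]; exact hXY))
    have L := LY.mul LAC hYN
    have hN : (4 * b ^ 4 - 4 * b ^ 3 + 2 * b ^ 2 - 2 * b + 1) * (4 * b ^ 4 + 1) ≤ ((Y * (A * C) : ℕ) : ℤ) := by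
      rw [Nat.cast_mul, hAC]
      exact mul_le_mul_of_nonneg_right hYle (by positivity)
    obtain ⟨n1, n2⟩ := num_f4 (R := R q) hb (by rw [hRX]; exact hXle) hN
    exact size_false hP L n1 le_rfl (by positivity) n2
  by_cases c1 : Nat.Coprime (R q) P
  · by_cases c2 : Nat.Coprime (R q) M
    · have := Nat.dvd_one.1 ((c1.mul_right c2) ▸ Nat.dvd_gcd dvd_rfl hRPM)
      omega
    · have h1 : R q = M := Nat.dvd_antisymm (c1.dvd_of_dvd_mul_left hRPM) (hdvd gM c2)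
      refine hfin h1 cPM.symm cPN gP ?_ ?_
      · rw [hMz]; unfold PGF4T.fM; nlinarith [pow_pos (by linarith : (0 : ℤ) < b) 3]
      · rw [hPz]; unfold PGF4T.fP; nlinarith [pow_pos (by linarith : (0 : ℤ) < b) 3]
  · by_cases c2 : Nat.Coprime (R q) M
    · have h1 : R q = P := Nat.dvd_antisymm (c2.dvd_of_dvd_mul_right hRPM) (hdvd gP c1)
      refine hfin h1 cPM cMN gM ?_ ?_
      · rw [hPz]; unfold PGF4T.fP; exact le_rfl
      · rw [hMz]; unfold PGF4T.fM; exact le_rfl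
    · have h1 : R q = P * M := Nat.dvd_antisymm hRPM (cPM.mul_dvd_of_dvd_of_dvd (hdvd gP c1) (hdvd gM c2))
      have hRz : (R q : ℤ) = (v : ℤ) ^ 4 - (v : ℤ) ^ 2 + 1 := by rw [h1, Nat.cast_mul, hPM]
      have hA1 : A ≠ 1 := by
        intro hA1
        rw [hA1] at hAz
        unfold PGF4T.fp at hAz
        push_cast at hAz
        nlinarith
      obtain ⟨s, hs, hsA⟩ := Nat.exists_prime_and_dvd hA1
      obtain ⟨w, rfl⟩ : ∃ w, v = w + 1 := ⟨v - 1, by omega⟩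
      obtain ⟨t, ht, ht3, ht2, htd⟩ := ExcNear.exists_three (q := w) (by omega)
      have hs2 : s ≠ 2 := by
        rintro rfl
        omega
      have hs3 : s ≠ 3 := by
        rintro rfl
        exact absurd (Nat.dvd_gcd (hsA.trans (Dvd.intro _ rfl)) dvd_rfl) (by rw [k3]; norm_num)
      have hsz : (s : ℤ) ∣ ((w + 1 : ℕ) : ℤ) ^ 2 + 1 := by
        have h2 : (s : ℤ) ∣ ((A * C : ℕ) : ℤ) := Int.natCast_dvd_natCast.2 (hsA.trans (Dvd.intro _ rfl))
        rw [hAC] at h2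
        rw [hvb]
        refine h2.trans (dvd_of_eq ?_)
        ring
      have htz : (t : ℤ) ∣ ((w + 1 : ℕ) : ℤ) ^ 2 - ((w + 1 : ℕ) : ℤ) + 1 := by
        have h1 : (t : ℤ) ∣ (w : ℤ) ^ 2 + (w : ℤ) + 1 := by exact_mod_cast htd
        refine h1.trans (dvd_of_eq ?_)
        push_cast; ring
      generalize hvw : ((w + 1 : ℕ) : ℤ) = x at hsz htz
      have hs' : Prime (s : ℤ) := Nat.prime_iff_prime_int.1 hs
      have ht' : Prime (t : ℤ) := Nat.prime_iff_prime_int.1 ht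
      have n1 : ¬ (s : ℤ) ∣ x ^ 2 * (x ^ 2 - 1) := by
        intro h1
        apply hs2
        apply (Nat.prime_dvd_prime_iff_eq hs Nat.prime_two).1
        have h3 : (s : ℤ) ∣ 2 := by
          have e : (2 : ℤ) = (x ^ 2 + 1) * (2 - x ^ 2) + x ^ 2 * (x ^ 2 - 1) := by ring
          rw [e]
          exact dvd_add (hsz.mul_right _) h1
        exact_mod_cast h3
      have n2 : ¬ (t : ℤ) ∣ x ^ 2 * (x ^ 2 - 1) := by
        intro h1
        apply ht3
        apply (Nat.prime_dvd_prime_iff_eq ht Nat.prime_three).1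
        have h3 : (t : ℤ) ∣ 3 := by
          have e : (3 : ℤ) = (x ^ 2 - x + 1) * (3 + 3 * x + (-1) * x ^ 2 + (-2) * x ^ 3) +
              x ^ 2 * (x ^ 2 - 1) * ((-1) + 2 * x) := by ring
          rw [e]
          exact dvd_add (htz.mul_right _) (h1.mul_right _)
        exact_mod_cast h3
      have hst : s ≠ t := by
        rintro rfl
        have h1 : (s : ℤ) ∣ x := by
          have : x = (x ^ 2 + 1) - (x ^ 2 - x + 1) := by ring
          rw [this]; exact dvd_sub hsz htz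
        exact n1 ((h1.mul_right x).trans (by rw [← pow_two]; exact dvd_mul_right _ _))
      have hTz : (T : ℤ) = x ^ 12 * (x - 1) * (x ^ 3 + 1) * (x ^ 4 - 1) * (x ^ 2 + 1) := by
        rw [hT, Nat.cast_mul, Nat.cast_mul, Nat.cast_mul, Nat.cast_mul, Nat.cast_sub (by omega : 1 ≤ w + 1),
          Nat.cast_sub hv4, Nat.cast_pow, Nat.cast_pow, Nat.cast_add ((w + 1) ^ 3), Nat.cast_add ((w + 1) ^ 2),
          Nat.cast_pow, Nat.cast_pow, hvw]
        push_cast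
        ring
      have gs : ∃ g : ↥(twistedF4 K (2 ^ m)), orderOf g = s := ex_prime hs (by
        rw [hT1]
        refine Dvd.dvd.mul_right ?_ _
        apply Int.natCast_dvd_natCast.1
        rw [hTz]
        exact dvd_mul_of_dvd_right hsz _)
      have gt : ∃ g : ↥(twistedF4 K (2 ^ m)), orderOf g = t := ex_prime ht (by
        rw [hT1]
        refine Dvd.dvd.mul_right ?_ _
        apply Int.natCast_dvd_natCast.1
        rw [hTz]
        refine htz.trans ⟨x ^ 12 * (x - 1) * (x + 1) * (x ^ 4 - 1) * (x ^ 2 + 1), by ring⟩)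
      have Ls : Lam p q s := h.lam hP gs (Or.inl (cop_of (by omega) hod
        (hsA.trans ((Dvd.intro _ rfl).trans hACd)) (by norm_num)))
      have Lt : Lam p q t := h.lam hP gt (Or.inl (cop_of (v := w + 1) (k := 6) (by omega) hod (by
        apply Int.natCast_dvd_natCast.1
        rw [Nat.cast_sub (Nat.one_le_pow _ _ (by omega)), Nat.cast_pow, hvw, Nat.cast_one]
        exact htz.trans ⟨(x + 1) * (x ^ 3 - 1), by ring⟩) (by norm_num)))
      exact not_c12 (v := w + 1) hP (by omega) hRz hs ht hs3 ht3 hs2 ht2 Ls Lt hst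
        (by rw [hvw]; exact n1) (by rw [hvw]; exact n2)

end Cfsg.Agent.H371.P4
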